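import Groth.Agent.Eg2Rel.TwistFrame
import Groth.Agent.Eg2Twist.Frames
import Groth.Agent.InvX.GenLocusPull

/-!
# The standard frames of the twisting sheaves given by elements of degree one
-/

universe u

open CategoryTheory CategoryTheory.Limits AlgebraicGeometry TopologicalSpace Opposite HomogeneousLocalization
open Groth.Agent.AModX
open scoped HomogeneousIdeal

set_option backward.isDefEq.respectTransparency false
set_option backward.isDefEq.respectTransparency.types false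

noncomputable section

namespace Groth.Agent.Eg2Rel

/-- `u ^ n`, with `v` standing for the inverse of `u`. -/
def zfac {R : Type*} [Monoid R] (a b : R) (n : ℤ) : R := a ^ n.toNat * b ^ (-n).toNat

lemma map_zfac {R S : Type*} [Monoid R] [Monoid S] (φ : R →* S) (a b : R) (n : ℤ) :
    φ (zfac a b n) = zfac (φ a) (φ b) n := by
  simp [zfac]

variable {Y P : Scheme.{u}} {𝒮 : RelProj.QCGrAlg Y} {p : P ⟶ Y}
  {chart : ∀ (U : Y.Opens) (hU : IsAffineOpen U), (((p ⁻¹ᵁ U : P.Opens) : Scheme.{u}) ≅ Proj (𝒮.deg U hU))}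

variable (chart) in
/-- The open `D₊(f)` in the relative `Proj`. -/
abbrev gOpen {U : Y.Opens} (hU : IsAffineOpen U) (f : 𝒮.presheaf.obj (op U)) : P.Opens :=
  RelProj.emb p chart U hU ''ᵁ Proj.basicOpen (𝒮.deg U hU) f

lemma gOpen_le {U : Y.Opens} (hU : IsAffineOpen U) (f : 𝒮.presheaf.obj (op U)) :
    gOpen chart hU f ≤ p ⁻¹ᵁ U :=
  ((RelProj.emb p chart U hU).image_le_opensRange _).trans (RelTildeX.opensRange_emb p chart U hU).le

lemma mem_of_emb_mem {U : Y.Opens} (hU : IsAffineOpen U) (f : 𝒮.presheaf.obj (op U))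
    {y : ProjectiveSpectrum (𝒮.deg U hU)}
    (hy : (RelProj.emb p chart U hU).base y ∈ gOpen chart hU f) : y ∈ Proj.basicOpen (𝒮.deg U hU) f := by
  change (RelProj.emb p chart U hU).base y ∈
    (RelProj.emb p chart U hU ''ᵁ Proj.basicOpen (𝒮.deg U hU) f : Set P) at hy
  rw [Scheme.Hom.coe_image, (RelProj.emb p chart U hU).isOpenEmbedding.injective.mem_set_image] at hy
  exact hy

theorem gOpen_res (hP : RelProj.IsRelProj 𝒮 p chart) {U D : Y.Opens} (hU : IsAffineOpen U)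
    (hD : IsAffineOpen D) (i : D ≤ U) (hb : ∃ r : Γ(Y, U), Y.basicOpen r = D) (f : 𝒮.presheaf.obj (op U)) :
    gOpen chart hD (𝒮.res hU hD i f) = gOpen chart hU f ⊓ p ⁻¹ᵁ D := by
  have e := EgaQ.map_res_emb' hP hU hD i hb
  ext x
  constructor
  · intro hx
    refine ⟨?_, gOpen_le hD _ hx⟩
    obtain ⟨y, hy, rfl⟩ := hx
    exact ⟨Proj.map (𝒮.res hU hD i) (Proj16.irrelevant_le_res 𝒮 hU hD i hb) y, hy,
      congr(($e).base y)⟩
  · rintro ⟨⟨z, hz, rfl⟩, hx⟩
    obtain ⟨y, hy⟩ := EgaQ.mem_range_emb (chart := chart) D hD _ hx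
    refine ⟨y, ?_, hy⟩
    have h1 : Proj.map (𝒮.res hU hD i) (Proj16.irrelevant_le_res 𝒮 hU hD i hb) y = z :=
      (RelProj.emb p chart U hU).isOpenEmbedding.injective ((congr(($e).base y)).trans hy)
    rw [← h1] at hz
    exact hz

section frac

variable {U : Y.Opens} (hU : IsAffineOpen U) {f f' : 𝒮.presheaf.obj (op U)}

variable (chart) in
/-- The function `f' / f`. -/
def frac (hf : f ∈ 𝒮.deg U hU 1) (hf' : f' ∈ 𝒮.deg U hU 1) : Γ(P, gOpen chart hU f) :=
  ((RelProj.emb p chart U hU).appIso (Proj.basicOpen (𝒮.deg U hU) f)).inv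
    (Proj.awayToSection (𝒮.deg U hU) f (Away.mk (𝒮.deg U hU) hf 1 f' (by rw [one_smul]; exact hf')))

variable (chart) in
/-- The value of a function at a point of a chart. -/
def ev (W : P.Opens) (y : ProjectiveSpectrum (𝒮.deg U hU))
    (hy : (RelProj.emb p chart U hU).base y ∈ W) : Γ(P, W) →+* GrTwist.Loc (𝒮.deg U hU) y where
  toFun c := (((RelProj.emb p chart U hU).app W c).1 ⟨y, hy⟩).val
  map_one' := by rw [map_one]; exact HomogeneousLocalization.val_one
  map_mul' a b := by rw [map_mul]; exact HomogeneousLocalization.val_mul _ _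
  map_zero' := by rw [map_zero]; exact HomogeneousLocalization.val_zero
  map_add' a b := by rw [map_add]; exact HomogeneousLocalization.val_add _ _

lemma ev_res {W W₀ : P.Opens} (h : W ≤ W₀) (c : Γ(P, W₀)) (y : ProjectiveSpectrum (𝒮.deg U hU))
    (hy : (RelProj.emb p chart U hU).base y ∈ W) :
    ev chart hU W y hy (resR h c) = ev chart hU W₀ y (h hy) c := by
  show (((RelProj.emb p chart U hU).app W (resR h c)).1 ⟨y, hy⟩).val = _
  rw [show (RelProj.emb p chart U hU).app W (resR h c) =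
    (Proj (𝒮.deg U hU)).presheaf.map ((Opens.map (RelProj.emb p chart U hU).base).map (homOfLE h)).op
      ((RelProj.emb p chart U hU).app W₀ c) from
    congr($((RelProj.emb p chart U hU).naturality (homOfLE h).op).hom c)]
  rfl

lemma ev_frac (hf : f ∈ 𝒮.deg U hU 1) (hf' : f' ∈ 𝒮.deg U hU 1) (y : ProjectiveSpectrum (𝒮.deg U hU))
    (hy : (RelProj.emb p chart U hU).base y ∈ gOpen chart hU f) :
    ev chart hU (gOpen chart hU f) y hy (frac chart hU hf hf') =
      Localization.mk f' ⟨f, mem_of_emb_mem hU f hy⟩ := by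
  have e2 : (RelProj.emb p chart U hU).app (gOpen chart hU f) (frac chart hU hf hf') =
      (Proj (𝒮.deg U hU)).presheaf.map
        (eqToHom ((RelProj.emb p chart U hU).preimage_image_eq (Proj.basicOpen (𝒮.deg U hU) f))).op
        (Proj.awayToSection (𝒮.deg U hU) f (Away.mk (𝒮.deg U hU) hf 1 f' (by rw [one_smul]; exact hf'))) :=
    congr($((RelProj.emb p chart U hU).appIso_inv_app (Proj.basicOpen (𝒮.deg U hU) f))
      (Proj.awayToSection (𝒮.deg U hU) f (Away.mk (𝒮.deg U hU) hf 1 f' (by rw [one_smul]; exact hf'))))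
  show (((RelProj.emb p chart U hU).app (gOpen chart hU f) (frac chart hU hf hf')).1 ⟨y, hy⟩).val = _
  rw [e2]
  show ((Proj.awayToSection (𝒮.deg U hU) f _).1 ⟨y, mem_of_emb_mem hU f hy⟩).val = _
  refine (ProjectiveSpectrum.Proj.awayToSection_apply (𝒮.deg U hU) f _ ⟨y, mem_of_emb_mem hU f hy⟩).trans ?_
  rw [Away.val_mk, Localization.mk_eq_mk', IsLocalization.map_mk', ← Localization.mk_eq_mk']
  exact Localization.mk_eq_mk_iff.mpr (Localization.r_of_eq (by simp))

end frac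

section twist

variable {n : ℤ} {L : P.Modules}
  {lam : ∀ (U : Y.Opens) (hU : IsAffineOpen U),
    L ⟶ (Scheme.Modules.pushforward (RelProj.emb p chart U hU)).obj (GrTwist.twist (𝒮.deg U hU) n)}

lemma val_smul {U : Y.Opens} (hU : IsAffineOpen U)
    (l : L ⟶ (Scheme.Modules.pushforward (RelProj.emb p chart U hU)).obj (GrTwist.twist (𝒮.deg U hU) n))
    {W : P.Opens} (c : Γ(P, W)) (s : Γ(L, W)) (y : ProjectiveSpectrum (𝒮.deg U hU))
    (hy : (RelProj.emb p chart U hU).base y ∈ W) :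
    GrTwist.val (V := RelProj.emb p chart U hU ⁻¹ᵁ W) (l.app W (c • s)) ⟨y, hy⟩ =
      ev chart hU W y hy c * GrTwist.val (V := RelProj.emb p chart U hU ⁻¹ᵁ W) (l.app W s) ⟨y, hy⟩ := by
  rw [Scheme.Modules.Hom.app_smul]
  exact GrTwist.coe_smul_val n y _ _

/-- `f ^ n` as a fraction. -/
def genFrac {U : Y.Opens} {hU : IsAffineOpen U} {f : 𝒮.presheaf.obj (op U)} (hf : f ∈ 𝒮.deg U hU 1)
    (n : ℤ) : GrTwistX.UnitFrac (𝒜 := 𝒮.deg U hU) n (Proj.basicOpen (𝒮.deg U hU) f) where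
  i := n.toNat
  j := (-n).toNat
  num := f ^ n.toNat
  den := f ^ (-n).toNat
  num_mem := by simpa using SetLike.pow_mem_graded n.toNat hf
  den_mem := by simpa using SetLike.pow_mem_graded (-n).toNat hf
  deg := by omega
  num_ne x := GrTwistX.notMem_pow x.2 _
  den_ne x := GrTwistX.notMem_pow x.2 _

/-- The frame `f ^ n`. -/
def fr (hL : RelProj.IsRelTwist 𝒮 p chart n L lam) {U : Y.Opens} (hU : IsAffineOpen U)
    {f : 𝒮.presheaf.obj (op U)} (hf : f ∈ 𝒮.deg U hU 1) : Γ(L, gOpen chart hU f) :=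
  (exists_frame_frac hL hU (genFrac hf n)).choose

variable (hL : RelProj.IsRelTwist 𝒮 p chart n L lam) {U : Y.Opens} (hU : IsAffineOpen U)
  {f f' : 𝒮.presheaf.obj (op U)}

lemma isFrame_fr (hf : f ∈ 𝒮.deg U hU 1) : InvX.IsFrame (fr hL hU hf) :=
  (exists_frame_frac hL hU (genFrac hf n)).choose_spec.1

lemma val_fr (hf : f ∈ 𝒮.deg U hU 1) (y : ProjectiveSpectrum (𝒮.deg U hU))
    (hy : (RelProj.emb p chart U hU).base y ∈ gOpen chart hU f) :
    GrTwist.val (V := RelProj.emb p chart U hU ⁻¹ᵁ gOpen chart hU f)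
        ((lam U hU).app _ (fr hL hU hf)) ⟨y, hy⟩ =
      Localization.mk (f ^ n.toNat) ⟨f ^ (-n).toNat, (genFrac hf n).den_ne ⟨y, mem_of_emb_mem hU f hy⟩⟩ :=
  (exists_frame_frac hL hU (genFrac hf n)).choose_spec.2 y hy (mem_of_emb_mem hU f hy)

/-- The transition functions of the frames `f ^ n`. -/
theorem fr_transition (hf : f ∈ 𝒮.deg U hU 1) (hf' : f' ∈ 𝒮.deg U hU 1) {W : P.Opens}
    (ha : W ≤ gOpen chart hU f) (hb : W ≤ gOpen chart hU f') :
    res L hb (fr hL hU hf') =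
      zfac (resR ha (frac chart hU hf hf')) (resR hb (frac chart hU hf' hf)) n •
        res L ha (fr hL hU hf) := by
  refine (hL.bijective U hU W (ha.trans (gOpen_le hU f))).1 ?_
  refine Subtype.ext (funext fun y => Subtype.ext ?_)
  obtain ⟨y, hy⟩ := y
  show GrTwist.val (V := RelProj.emb p chart U hU ⁻¹ᵁ W) ((lam U hU).app W _) ⟨y, hy⟩ =
    GrTwist.val (V := RelProj.emb p chart U hU ⁻¹ᵁ W) ((lam U hU).app W _) ⟨y, hy⟩
  rw [val_smul, val_app_res hU (lam U hU) hb, val_app_res hU (lam U hU) ha, val_fr, val_fr,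
    show ev chart hU W y hy (zfac (resR ha (frac chart hU hf hf')) (resR hb (frac chart hU hf' hf)) n) =
      zfac (ev chart hU W y hy (resR ha (frac chart hU hf hf')))
        (ev chart hU W y hy (resR hb (frac chart hU hf' hf))) n from map_zfac (ev chart hU W y hy).toMonoidHom _ _ n,
    ev_res hU ha, ev_res hU hb, ev_frac, ev_frac, zfac, Localization.mk_pow, Localization.mk_pow,
    Localization.mk_mul, Localization.mk_mul]
  refine Localization.mk_eq_mk_iff.mpr (Localization.r_of_eq ?_)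
  simp only [Submonoid.coe_mul, SubmonoidClass.coe_pow]
  ring

/-- The frames are compatible with restriction to basic opens of the base. -/
theorem res_fr (hP : RelProj.IsRelProj 𝒮 p chart) {D : Y.Opens} (hD : IsAffineOpen D) (i : D ≤ U)
    (hb : ∃ r : Γ(Y, U), Y.basicOpen r = D) (hf : f ∈ 𝒮.deg U hU 1) :
    res L ((gOpen_res hP hU hD i hb f).le.trans inf_le_left) (fr hL hU hf) =
      fr hL hD ((𝒮.res hU hD i).map_mem hf) := by
  obtain ⟨r, rfl⟩ := hb
  refine (hL.bijective _ hD _ (gOpen_le hD _)).1 ?_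
  refine Subtype.ext (funext fun y => Subtype.ext ?_)
  obtain ⟨y, hy⟩ := y
  show GrTwist.val (V := RelProj.emb p chart _ hD ⁻¹ᵁ gOpen chart hD _) ((lam _ hD).app _ _) ⟨y, hy⟩ =
    GrTwist.val (V := RelProj.emb p chart _ hD ⁻¹ᵁ gOpen chart hD _) ((lam _ hD).app _ _) ⟨y, hy⟩
  have hle := (gOpen_res hP hU hD i ⟨r, rfl⟩ f).le.trans inf_le_left
  have e := congr(($(RelProj.map_res_emb hP U hU r)).base y)
  have hy' : (RelProj.emb p chart U hU).base (ProjectiveSpectrum.comap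
      (𝒮.res hU (hU.basicOpen r) (Y.basicOpen_le r)) (𝒮.irrelevant_le_map U hU r) y) ∈ gOpen chart hU f :=
    (show _ = _ from e).symm ▸ hle hy
  rw [val_fr, val_app_res hD (lam _ hD) hle]
  refine (hL.compat U hU r _ (fr hL hU hf) y (hle hy) hy').trans ?_
  rw [val_fr, GrTwist.locMap_mk]
  refine Localization.mk_eq_mk_iff.mpr (Localization.r_of_eq ?_)
  simp only [RelProj.QCGrAlg.res_apply, map_pow]

variable {X : Scheme.{u}}

include hL in
/-- An inverse image of `O(n)` is identified by frames with the pulled back transition functions. -/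
theorem nonempty_iso_pullback (hP : RelProj.IsRelProj 𝒮 p chart) (h : X ⟶ P) {M : X.Modules} {ι : Type u}
    (U : ι → Y.Opens) (hU : ∀ a, IsAffineOpen (U a)) (f : ∀ a, 𝒮.presheaf.obj (op (U a)))
    (hf : ∀ a, f a ∈ 𝒮.deg (U a) (hU a) 1) (hcov : ∀ x, ∃ a, h x ∈ gOpen chart (hU a) (f a))
    (m : ∀ a, Γ(M, h ⁻¹ᵁ gOpen chart (hU a) (f a))) (hm : ∀ a, InvX.IsFrame (m a))
    (hc : ∀ (a b : ι) (D : Y.Opens) (hD : IsAffineOpen D) (ia : D ≤ U a) (ib : D ≤ U b),
      (∃ r : Γ(Y, U a), Y.basicOpen r = D) → (∃ r : Γ(Y, U b), Y.basicOpen r = D) →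
      ∀ (W : X.Opens) (ha : W ≤ h ⁻¹ᵁ gOpen chart hD (𝒮.res (hU a) hD ia (f a)))
        (hb : W ≤ h ⁻¹ᵁ gOpen chart hD (𝒮.res (hU b) hD ib (f b)))
        (ha' : W ≤ h ⁻¹ᵁ gOpen chart (hU a) (f a)) (hb' : W ≤ h ⁻¹ᵁ gOpen chart (hU b) (f b)),
        res M hb' (m b) = (show Γ(X, W) from zfac
          ((h.appLE _ W ha).hom (frac chart hD ((𝒮.res (hU a) hD ia).map_mem (hf a))
            ((𝒮.res (hU b) hD ib).map_mem (hf b))))
          ((h.appLE _ W hb).hom (frac chart hD ((𝒮.res (hU b) hD ib).map_mem (hf b))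
            ((𝒮.res (hU a) hD ia).map_mem (hf a)))) n) • res M ha' (m a)) :
    Nonempty ((Scheme.Modules.pullback h).obj L ≅ M) := by
  refine Eg2Twist.nonempty_iso_of_frames (fun a => h ⁻¹ᵁ gOpen chart (hU a) (f a)) hcov
    (fun a => InvX.pullElt h (fr hL (hU a) (hf a))) m
    (fun a => InvX.isFrame_pullElt h (isFrame_fr hL (hU a) (hf a))) hm fun a b W ha hb k hk => ?_
  refine eq_of_locally _ _ fun w hw => ?_
  obtain ⟨r, r', hrr, hwr⟩ := exists_basicOpen_le_affine_inter (hU a) (hU b) (p (h w))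
    ⟨gOpen_le (hU a) _ (ha hw), gOpen_le (hU b) _ (hb hw)⟩
  set D := Y.basicOpen r with hD'
  have hD : IsAffineOpen D := (hU a).basicOpen r
  have ia : D ≤ U a := Y.basicOpen_le r
  have ib : D ≤ U b := hrr ▸ Y.basicOpen_le r'
  set W' := W ⊓ h ⁻¹ᵁ p ⁻¹ᵁ D
  have hW : W' ≤ W := inf_le_left
  have hA := gOpen_res hP (hU a) hD ia ⟨r, rfl⟩ (f a)
  have hB := gOpen_res hP (hU b) hD ib ⟨r', hrr.symm⟩ (f b)
  have haD : W' ≤ h ⁻¹ᵁ gOpen chart hD (𝒮.res (hU a) hD ia (f a)) := by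
    rw [hA]; exact fun x hx => ⟨ha hx.1, hx.2⟩
  have hbD : W' ≤ h ⁻¹ᵁ gOpen chart hD (𝒮.res (hU b) hD ib (f b)) := by
    rw [hB]; exact fun x hx => ⟨hb hx.1, hx.2⟩
  refine ⟨W', hW, ⟨hw, hwr⟩, ?_⟩
  rw [res_smul, res_res, res_res, hc a b D hD ia ib ⟨r, rfl⟩ ⟨r', hrr.symm⟩ W' haD hbD (hW.trans ha) (hW.trans hb)]
  refine congrArg (fun c : Γ(X, W') => c • res M (hW.trans ha) (m a)) ?_
  have hk' := congrArg (res _ hW) hk
  rw [res_smul, res_res, res_res] at hk'
  let hab : W' ≤ h ⁻¹ᵁ (gOpen chart hD (𝒮.res (hU a) hD ia (f a)) ⊓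
      gOpen chart hD (𝒮.res (hU b) hD ib (f b))) := fun x hx => ⟨haD hx, hbD hx⟩
  have h1 := congrArg (fun t => res _ hab (InvX.pullElt h t))
    (fr_transition hL hD ((𝒮.res (hU a) hD ia).map_mem (hf a)) ((𝒮.res (hU b) hD ib).map_mem (hf b))
      (inf_le_left) (inf_le_right))
  simp only [← res_fr hL (hU a) hP hD ia ⟨r, rfl⟩ (hf a), ← res_fr hL (hU b) hP hD ib ⟨r', hrr.symm⟩ (hf b),
    InvX.pullElt_smul, res_smul] at h1
  erw [res_res, res_res, ← InvX.res_pullElt, ← InvX.res_pullElt, res_res, res_res] at h1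
  refine ((InvX.isFrame_pullElt h (isFrame_fr hL (hU a) (hf a))).coord_unique (hW.trans ha)
    ((hk'.symm.trans h1).trans ?_)).symm
  refine congrArg (fun c : Γ(X, W') => c • res _ (hW.trans ha) (InvX.pullElt h (fr hL (hU a) (hf a)))) ?_
  refine (map_zfac (h.appLE _ W' hab).hom.toMonoidHom _ _ n).trans ?_
  exact congrArg₂ (fun u v => zfac u v n)
    (congr($(h.map_appLE hab (homOfLE inf_le_left).op).hom _))
    (congr($(h.map_appLE hab (homOfLE inf_le_right).op).hom _))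

end twist

section map

variable {PB : Scheme.{u}} {pB : PB ⟶ Y} {ℬ : RelProj.QCGrAlg Y}
  {chartB : ∀ (U : Y.Opens) (hU : IsAffineOpen U), (((pB ⁻¹ᵁ U : PB.Opens) : Scheme.{u}) ≅ Proj (ℬ.deg U hU))}
  {h : PB ⟶ P} {U : Y.Opens} (hU : IsAffineOpen U) (φ : 𝒮.deg U hU →+*ᵍ ℬ.deg U hU)
  (hφ : (ℬ.deg U hU)₊ ≤ ((𝒮.deg U hU)₊).map φ)
  (hsq : RelProj.emb pB chartB U hU ≫ h = Proj.map φ hφ ≫ RelProj.emb p chart U hU)

include hsq in
theorem preimage_gOpen (hh : h ≫ p = pB) (f : 𝒮.presheaf.obj (op U)) :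
    h ⁻¹ᵁ gOpen chart hU f = gOpen chartB hU (φ f) := by
  ext x
  constructor
  · intro hx
    have hxU : pB x ∈ U := by
      rw [← hh, Scheme.Hom.comp_apply]
      exact gOpen_le hU f hx
    obtain ⟨y, rfl⟩ := EgaQ.mem_range_emb (chart := chartB) U hU x hxU
    have hy : (RelProj.emb p chart U hU).base (Proj.map φ hφ y) ∈ gOpen chart hU f :=
      (show _ = _ from congr(($hsq).base y)) ▸ hx
    exact ⟨y, mem_of_emb_mem hU f hy, rfl⟩
  · rintro ⟨y, hy, rfl⟩
    exact ⟨Proj.map φ hφ y, hy, (congr(($hsq).base y)).symm⟩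

include hsq in
theorem appLE_frac {f f' : 𝒮.presheaf.obj (op U)} (hf : f ∈ 𝒮.deg U hU 1) (hf' : f' ∈ 𝒮.deg U hU 1)
    (hle : gOpen chartB hU (φ f) ≤ h ⁻¹ᵁ gOpen chart hU f) :
    (h.appLE (gOpen chart hU f) (gOpen chartB hU (φ f)) hle).hom (frac chart hU hf hf') =
      frac chartB hU (φ.map_mem hf) (φ.map_mem hf') := by
  set eA := RelProj.emb p chart U hU
  set eB := RelProj.emb pB chartB U hU
  set DA := Proj.basicOpen (𝒮.deg U hU) f
  set DB := Proj.basicOpen (ℬ.deg U hU) (φ f)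
  have hm : DB ≤ Proj.map φ hφ ⁻¹ᵁ DA := le_rfl
  have hA : DA ≤ eA ⁻¹ᵁ gOpen chart hU f := (eA.preimage_image_eq DA).ge
  have hB : DB ≤ eB ⁻¹ᵁ gOpen chartB hU (φ f) := (eB.preimage_image_eq DB).ge
  have e1 : h.appLE (gOpen chart hU f) (gOpen chartB hU (φ f)) hle ≫ eB.appLE _ DB hB =
      eA.appLE _ DA hA ≫ (Proj.map φ hφ).appLE DA DB hm := by
    rw [Scheme.Hom.appLE_comp_appLE, Scheme.Hom.appLE_comp_appLE]
    simp only [hsq]
  have e2 : Proj.awayToSection (𝒮.deg U hU) f ≫ (eA.appIso DA).inv ≫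
      h.appLE (gOpen chart hU f) (gOpen chartB hU (φ f)) hle =
        CommRingCat.ofHom (Away.map φ f : Away (𝒮.deg U hU) f →+* Away (ℬ.deg U hU) (φ f)) ≫
          Proj.awayToSection (ℬ.deg U hU) (φ f) ≫ (eB.appIso DB).inv := by
    rw [← Category.assoc (CommRingCat.ofHom _), ← Proj.awayToSection_comp_appLE φ hφ hf, Category.assoc,
      ← cancel_mono (eB.appIso DB).hom, Category.assoc, Category.assoc, Category.assoc, Category.assoc,
      Iso.inv_hom_id, Category.comp_id, eB.appIso_hom' DB]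
    rw [show h.appLE (gOpen chart hU f) (gOpen chartB hU (φ f)) hle ≫ eB.appLE _ DB hB =
      eA.appLE _ DA hA ≫ (Proj.map φ hφ).appLE DA DB hm from e1,
      show eA.appLE (gOpen chart hU f) DA hA = (eA.appIso DA).hom from (eA.appIso_hom' DA).symm,
      Iso.inv_hom_id_assoc]
  refine (congr($(e2).hom (Away.mk (𝒮.deg U hU) hf 1 f' (by rw [one_smul]; exact hf')))).trans ?_
  show (eB.appIso DB).inv.hom ((Proj.awayToSection (ℬ.deg U hU) (φ f)).hom
    (Away.map φ f (Away.mk (𝒮.deg U hU) hf 1 f' _))) = _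
  rw [Away.map_mk]
  rfl

end map

end Groth.Agent.Eg2Rel
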