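import Groth.Agent.RelTildeX.Chart
import Groth.Agent.GrTwistX.Triv
import Groth.Agent.InvX.Tensor
import Groth.Agent.Para81.FrameGlue
import Groth.Agent.EgaQ.Rel

/-!
# Frames of the twisting sheaves of a relative `Proj`
-/

noncomputable section

universe u

open CategoryTheory AlgebraicGeometry TopologicalSpace Opposite
open Groth.Agent.AModX
open scoped HomogeneousIdeal

set_option backward.isDefEq.respectTransparency false
set_option backward.isDefEq.respectTransparency.types false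

namespace Groth.Agent.Eg2Rel

section general

variable {X Z : Scheme.{u}} (e : Z ⟶ X) [IsOpenImmersion e] {L : X.Modules} {N : Z.Modules}
  (l : L ⟶ (Scheme.Modules.pushforward e).obj N)

/-- A frame read in a chart gives a frame. -/
theorem exists_frame_chart (h : ∀ W : X.Opens, W ≤ e.opensRange → Function.Bijective (l.app W)) {D : Z.Opens}
    {k : Γ(N, D)} (hk : InvX.IsFrame k) :
    ∃ s : Γ(L, e ''ᵁ D), InvX.IsFrame s ∧
      l.app _ s = (show Γ((Scheme.Modules.pushforward e).obj N, e ''ᵁ D) from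
        res N (e.preimage_image_eq D).le k) := by
  obtain ⟨s, hs⟩ := (h _ (e.image_le_opensRange D)).2
    (show Γ((Scheme.Modules.pushforward e).obj N, e ''ᵁ D) from res N (e.preimage_image_eq D).le k)
  refine ⟨s, fun V hV => ?_, hs⟩
  have hV' : V ≤ e.opensRange := hV.trans (e.image_le_opensRange D)
  have h1 : Function.Bijective (e.app V) := by
    have := e.isIso_app V hV'
    exact ConcreteCategory.bijective_of_isIso _
  have hD : e ⁻¹ᵁ V ≤ D := (e.preimage_mono hV).trans (e.preimage_image_eq D).le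
  have key : ∀ r : Γ(X, V), l.app V (r • res L hV s) = (show Γ((Scheme.Modules.pushforward e).obj N, V) from
      e.app V r • res N hD k) := fun r => by
    rw [Scheme.Modules.Hom.app_smul, app_res, hs]
    exact congrArg (fun t => e.app V r • t) (res_res (M := N) _ (e.preimage_mono hV) k)
  refine ⟨fun r r' hr => ?_, fun x => ?_⟩
  · exact h1.1 ((hk _ hD).1 ((key r).symm.trans ((congrArg (l.app V) hr).trans (key r'))))
  · obtain ⟨c, hc⟩ := (hk _ hD).2 (show Γ(N, e ⁻¹ᵁ V) from l.app V x)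
    obtain ⟨r, rfl⟩ := h1.2 c
    exact ⟨r, (h V hV').1 ((key r).trans hc)⟩

end general

variable {Y P : Scheme.{u}} {𝒮 : RelProj.QCGrAlg Y} {p : P ⟶ Y}
  {chart : ∀ (U : Y.Opens) (hU : IsAffineOpen U), (((p ⁻¹ᵁ U : P.Opens) : Scheme.{u}) ≅ Proj (𝒮.deg U hU))}
  {n : ℤ} {L : P.Modules}
  {lam : ∀ (U : Y.Opens) (hU : IsAffineOpen U),
    L ⟶ (Scheme.Modules.pushforward (RelProj.emb p chart U hU)).obj (GrTwist.twist (𝒮.deg U hU) n)}

/-- An invertible fraction gives a frame of the twisting sheaf. -/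
theorem exists_frame_frac (hL : RelProj.IsRelTwist 𝒮 p chart n L lam) {U : Y.Opens} (hU : IsAffineOpen U)
    {D : (Proj (𝒮.deg U hU)).Opens} (φ : GrTwistX.UnitFrac (𝒜 := 𝒮.deg U hU) n D) :
    ∃ s : Γ(L, RelProj.emb p chart U hU ''ᵁ D), InvX.IsFrame s ∧
      ∀ (y : ProjectiveSpectrum (𝒮.deg U hU)) (hy : (RelProj.emb p chart U hU).base y ∈ RelProj.emb p chart U hU ''ᵁ D)
        (hy' : y ∈ D), GrTwist.val (V := RelProj.emb p chart U hU ⁻¹ᵁ (RelProj.emb p chart U hU ''ᵁ D))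
          ((lam U hU).app _ s) ⟨y, hy⟩ = Localization.mk φ.num ⟨φ.den, φ.den_ne ⟨y, hy'⟩⟩ := by
  obtain ⟨s, hs, hval⟩ := exists_frame_chart (RelProj.emb p chart U hU) (lam U hU)
    (fun W hW => hL.bijective U hU W (hW.trans (RelTildeX.opensRange_emb p chart U hU).le))
    (D := D) (k := GrTwistX.fracSect φ) (fun V hV => GrTwistX.trivMap_bijective (φ.res hV))
  exact ⟨s, hs, fun y hy hy' => by rw [hval]; rfl⟩

/-- The image of a basic open in a chart. -/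
lemma image_emb {U : Y.Opens} (hU : IsAffineOpen U) (D : (Proj (𝒮.deg U hU)).Opens) :
    RelProj.emb p chart U hU ''ᵁ D = (p ⁻¹ᵁ U).ι ''ᵁ ((chart U hU).hom ⁻¹ᵁ D) := by
  show ((chart U hU).inv ≫ (p ⁻¹ᵁ U).ι) ''ᵁ D = _
  rw [Scheme.Hom.comp_image]
  congr 1
  ext y
  exact ⟨by rintro ⟨z, hz, rfl⟩; simpa using hz, fun hy => ⟨(chart U hU).hom y, hy, by simp⟩⟩

omit n in
lemma val_app_res {n : ℤ} {U : Y.Opens} (hU : IsAffineOpen U) {M : P.Modules}
    (l : M ⟶ (Scheme.Modules.pushforward (RelProj.emb p chart U hU)).obj (GrTwist.twist (𝒮.deg U hU) n))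
    {W W₀ : P.Opens} (h : W ≤ W₀) (s : Γ(M, W₀)) (y : ProjectiveSpectrum (𝒮.deg U hU))
    (hy : (RelProj.emb p chart U hU).base y ∈ W) :
    GrTwist.val (V := RelProj.emb p chart U hU ⁻¹ᵁ W) (l.app W (res M h s)) ⟨y, hy⟩ =
      GrTwist.val (V := RelProj.emb p chart U hU ⁻¹ᵁ W₀) (l.app W₀ s) ⟨y, h hy⟩ := by
  rw [app_res]
  rfl

/-- A global element of degree `d` trivialises `O(n d)` where it does not vanish. -/
theorem exists_frame_global (hP : RelProj.IsRelProj 𝒮 p chart) {d : ℕ} (f : 𝒮.presheaf.obj (op ⊤))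
    (hf : ∀ (U : Y.Opens) (hU : IsAffineOpen U), (𝒮.presheaf.map (homOfLE le_top).op).hom f ∈ 𝒮.deg U hU d)
    (Xf : P.Opens)
    (hXf : ∀ (U : Y.Opens) (hU : IsAffineOpen U),
      Xf ⊓ p ⁻¹ᵁ U = RelProj.emb p chart U hU ''ᵁ
        Proj.basicOpen (𝒮.deg U hU) ((𝒮.presheaf.map (homOfLE le_top).op).hom f))
    (m : ℤ) (hn : n = m * d) (hL : RelProj.IsRelTwist 𝒮 p chart n L lam) :
    ∃ s : Γ(L, Xf), InvX.IsFrame s := by
  subst hn
  let fU : ∀ U : Y.Opens, 𝒮.presheaf.obj (op U) := fun U => (𝒮.presheaf.map (homOfLE le_top).op).hom f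
  let φ : ∀ U : Y.affineOpens, GrTwistX.UnitFrac (𝒜 := 𝒮.deg U.1 U.2) (m * d) (Proj.basicOpen _ (fU U.1)) :=
    fun U => GrTwistX.powFrac (hf U.1 U.2) SetLike.GradedOne.one_mem (zero_add d).symm m (fun x => x.2)
      (fun x h => x.1.isPrime.ne_top ((Ideal.eq_top_iff_one _).mpr h))
  choose s hs hval using fun U : Y.affineOpens => exists_frame_frac hL U.2 (φ U)
  let O : Y.affineOpens → P.Opens := fun U => Xf ⊓ p ⁻¹ᵁ U.1
  let e : ∀ U, Γ(L, O U) := fun U => res L (hXf U.1 U.2).le (s U)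
  have he : ∀ U, InvX.IsFrame (e U) := fun U => (hs U).res _
  have hstep : ∀ (U : Y.affineOpens) (r : Γ(Y, U.1)),
      res L (le_inf inf_le_left (inf_le_right.trans (p.preimage_mono (Y.basicOpen_le r))) :
        O ⟨_, U.2.basicOpen r⟩ ≤ O U) (e U) = e ⟨_, U.2.basicOpen r⟩ := by
    intro U r
    let W : Y.affineOpens := ⟨_, U.2.basicOpen r⟩
    refine (hL.bijective W.1 W.2 _ inf_le_right).1 ?_
    refine Subtype.ext (funext fun y => Subtype.ext ?_)
    show GrTwist.val (V := RelProj.emb p chart W.1 W.2 ⁻¹ᵁ O W) ((lam W.1 W.2).app (O W) _) y = GrTwist.val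
      (V := RelProj.emb p chart W.1 W.2 ⁻¹ᵁ O W) ((lam W.1 W.2).app (O W) (e W)) y
    obtain ⟨y, hy⟩ := y
    have hmap := congrArg (fun g : Proj (𝒮.deg W.1 W.2) ⟶ P => g.base y) (RelProj.map_res_emb hP U.1 U.2 r)
    have hy' : (RelProj.emb p chart U.1 U.2).base (ProjectiveSpectrum.comap
        (𝒮.res U.2 W.2 (Y.basicOpen_le r)) (𝒮.irrelevant_le_map U.1 U.2 r) y) ∈ O W :=
      (show _ = _ from hmap).symm ▸ hy
    rw [hL.compat U.1 U.2 r (O W) _ y hy hy']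
    have hyU : (RelProj.emb p chart U.1 U.2).base (ProjectiveSpectrum.comap
        (𝒮.res U.2 W.2 (Y.basicOpen_le r)) (𝒮.irrelevant_le_map U.1 U.2 r) y) ∈
        RelProj.emb p chart U.1 U.2 ''ᵁ Proj.basicOpen (𝒮.deg U.1 U.2) (fU U.1) :=
      (hXf U.1 U.2).le ⟨hy'.1, p.preimage_mono (Y.basicOpen_le r) hy'.2⟩
    have hyW : (RelProj.emb p chart W.1 W.2).base y ∈
        RelProj.emb p chart W.1 W.2 ''ᵁ Proj.basicOpen (𝒮.deg W.1 W.2) (fU W.1) := (hXf W.1 W.2).le hy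
    have hU' := hyU
    rw [← SetLike.mem_coe, Scheme.Hom.coe_image,
      (RelProj.emb p chart U.1 U.2).isOpenEmbedding.injective.mem_set_image] at hU'
    have hW' := hyW
    rw [← SetLike.mem_coe, Scheme.Hom.coe_image,
      (RelProj.emb p chart W.1 W.2).isOpenEmbedding.injective.mem_set_image] at hW'
    simp only [e, res_res]
    rw [val_app_res U.2 (lam U.1 U.2) _ (s U), val_app_res W.2 (lam W.1 W.2) _ (s W)]
    show GrTwist.locMap _ _ y (GrTwist.val (V := RelProj.emb p chart U.1 U.2 ⁻¹ᵁ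
        (RelProj.emb p chart U.1 U.2 ''ᵁ Proj.basicOpen _ (fU U.1))) ((lam U.1 U.2).app _ (s U)) ⟨_, hyU⟩) =
      GrTwist.val (V := RelProj.emb p chart W.1 W.2 ⁻¹ᵁ
        (RelProj.emb p chart W.1 W.2 ''ᵁ Proj.basicOpen _ (fU W.1))) ((lam W.1 W.2).app _ (s W)) ⟨y, hyW⟩
    rw [hval U _ hyU hU', hval W _ hyW hW', GrTwist.locMap_mk]
    have hres : 𝒮.res U.2 W.2 (Y.basicOpen_le r) (fU U.1) = fU W.1 :=
      (congr(($(𝒮.presheaf.map_comp (homOfLE le_top).op (homOfLE (Y.basicOpen_le r)).op)).hom f)).symm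
    simp only [φ, GrTwistX.powFrac, one_pow, mul_one, one_mul, map_pow]
    congr 1
    · exact congrArg (· ^ m.toNat) hres
    · exact Subtype.ext (congrArg (· ^ (-m).toNat) hres)
  obtain ⟨t, ht, -⟩ := existsUnique_glue (M := L) (V := Xf) O (fun _ => inf_le_left) (fun x hx => by
      obtain ⟨_, ⟨U, hU, rfl⟩, hxU, -⟩ := Y.isBasis_affineOpens.exists_subset_of_mem_open
        (Set.mem_univ (p x)) isOpen_univ
      exact ⟨⟨U, hU⟩, hx, hxU⟩) e fun U V => by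
    refine eq_of_locally _ _ fun x hx => ?_
    obtain ⟨r, r', hrr, hxr⟩ := exists_basicOpen_le_affine_inter U.2 V.2 (p x) ⟨hx.1.2, hx.2.2⟩
    refine ⟨O ⟨_, U.2.basicOpen r⟩, le_inf (le_inf inf_le_left (inf_le_right.trans (p.preimage_mono (Y.basicOpen_le r))))
      (le_inf inf_le_left (inf_le_right.trans (p.preimage_mono (hrr.le.trans (Y.basicOpen_le r'))))), ⟨hx.1.1, hxr⟩, ?_⟩
    refine Eq.trans (res_res _ _ (e U)) (Eq.trans ?_ (res_res _ _ (e V)).symm)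
    refine (hstep U r).trans ?_
    have key : ∀ (W : Y.Opens) (hW : IsAffineOpen W) (_ : W = Y.basicOpen r') (h : O ⟨W, hW⟩ ≤ O V),
        e ⟨W, hW⟩ = res L h (e V) := by
      rintro W hW rfl h
      exact (hstep V r').symm
    exact key _ _ hrr _
  exact ⟨t, InvUfdLib.isFrame_of_cover O (fun _ => inf_le_left) (fun x hx => by
      obtain ⟨_, ⟨U, hU, rfl⟩, hxU, -⟩ := Y.isBasis_affineOpens.exists_subset_of_mem_open
        (Set.mem_univ (p x)) isOpen_univ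
      exact ⟨⟨U, hU⟩, hx, hxU⟩) t fun U => ht U ▸ he U⟩

/-- On a quasi-compact open some `O(d)` and its multiples have frames. -/
theorem exists_dvd_frames (𝒮 : RelProj.QCGrAlg Y) (p : P ⟶ Y)
    (chart : ∀ (U : Y.Opens) (hU : IsAffineOpen U), (((p ⁻¹ᵁ U : P.Opens) : Scheme.{u}) ≅ Proj (𝒮.deg U hU)))
    (U₀ : P.Opens) (hc : IsCompact (U₀ : Set P)) :
    ∃ d : ℕ, 0 < d ∧ ∀ (n : ℤ), (d : ℤ) ∣ n → ∀ (L : P.Modules)
      (lam : ∀ (V : Y.Opens) (hV : IsAffineOpen V),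
        L ⟶ (Scheme.Modules.pushforward (RelProj.emb p chart V hV)).obj (GrTwist.twist (𝒮.deg V hV) n)),
      RelProj.IsRelTwist 𝒮 p chart n L lam → ∀ x ∈ U₀, ∃ W : P.Opens, x ∈ W ∧ ∃ e : Γ(L, W), InvX.IsFrame e := by
  have hloc : ∀ x : P, ∃ (U : Y.affineOpens) (d : ℕ) (f : 𝒮.presheaf.obj (op U.1)),
      0 < d ∧ f ∈ 𝒮.deg U.1 U.2 d ∧ x ∈ RelProj.emb p chart U.1 U.2 ''ᵁ Proj.basicOpen (𝒮.deg U.1 U.2) f := by
    intro x
    obtain ⟨_, ⟨U, hU, rfl⟩, hxU, -⟩ := Y.isBasis_affineOpens.exists_subset_of_mem_open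
      (Set.mem_univ (p x)) isOpen_univ
    obtain ⟨y, rfl⟩ := EgaQ.mem_range_emb (chart := chart) U hU x hxU
    obtain ⟨d, f, hd, hf, hfy⟩ : ∃ (d : ℕ) (f : 𝒮.presheaf.obj (op U)), 0 < d ∧ f ∈ 𝒮.deg U hU d ∧
        f ∉ (show ProjectiveSpectrum (𝒮.deg U hU) from y).asHomogeneousIdeal := by
      by_contra! H
      refine (show ProjectiveSpectrum (𝒮.deg U hU) from y).not_irrelevant_le ?_
      exact (HomogeneousIdeal.irrelevant_le _).mpr fun i hi a ha => H i a hi ha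
    exact ⟨⟨U, hU⟩, d, f, hd, hf, y, hfy, rfl⟩
  choose U d f hd hf hx using hloc
  let O : P → P.Opens := fun x => RelProj.emb p chart (U x).1 (U x).2 ''ᵁ Proj.basicOpen _ (f x)
  obtain ⟨F, hF⟩ := hc.elim_finite_subcover (fun x => (O x : Set P)) (fun x => (O x).2)
    (fun x _ => Set.mem_iUnion.mpr ⟨x, hx x⟩)
  refine ⟨∏ x ∈ F, d x, Finset.prod_pos fun x _ => hd x, fun n hn L lam hL x hxU => ?_⟩
  obtain ⟨z, hz, hxz⟩ := Set.mem_iUnion₂.mp (hF hxU)
  obtain ⟨m, hm⟩ : (d z : ℤ) ∣ n := (Int.natCast_dvd_natCast.2 (Finset.dvd_prod_of_mem d hz)).trans hn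
  let φ := GrTwistX.powFrac (𝒜 := 𝒮.deg (U z).1 (U z).2) (U := Proj.basicOpen _ (f z)) (hf z)
    SetLike.GradedOne.one_mem (zero_add (d z)).symm m (fun y => y.2)
    (fun y h => y.1.isPrime.ne_top ((Ideal.eq_top_iff_one _).mpr h))
  have e0 : m * (d z : ℤ) = n := by rw [hm, mul_comm]
  let φ' : GrTwistX.UnitFrac (𝒜 := 𝒮.deg (U z).1 (U z).2) n (Proj.basicOpen _ (f z)) := e0 ▸ φ
  obtain ⟨s, hs, -⟩ := exists_frame_frac (n := n) (L := L) (lam := lam) hL (U z).2 φ'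
  exact ⟨_, hxz, s, hs⟩

end Groth.Agent.Eg2Rel
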