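import Groth.Agent.Eg2Rel.GenFrame
import Groth.Agent.RelTildeX.Invertible
import Groth.Agent.Proj16.RelMap

/-!
# Inverse image of `O(n)` along the morphism of relative `Proj`s given by a graded homomorphism
-/

universe u

open CategoryTheory CategoryTheory.Limits AlgebraicGeometry TopologicalSpace Opposite HomogeneousLocalization
open Groth.Agent.AModX
open scoped HomogeneousIdeal

set_option backward.isDefEq.respectTransparency false
set_option backward.isDefEq.respectTransparency.types false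

noncomputable section

namespace Groth.Agent.Eg2Rel

variable {Y P : Scheme.{u}} {𝒮 : RelProj.QCGrAlg Y} {p : P ⟶ Y}
  {chart : ∀ (U : Y.Opens) (hU : IsAffineOpen U), (((p ⁻¹ᵁ U : P.Opens) : Scheme.{u}) ≅ Proj (𝒮.deg U hU))}

/-- In a `Proj` generated in degree one the opens `D₊(f)`, `f` of degree one, cover. -/
theorem exists_mem_gOpen (hgen : 𝒮.IsGenDegOne) {U : Y.Opens} (hU : IsAffineOpen U) (x : P) (hx : p x ∈ U) :
    ∃ f ∈ 𝒮.deg U hU 1, x ∈ gOpen chart hU f := by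
  obtain ⟨y, rfl⟩ := EgaQ.mem_range_emb (chart := chart) U hU x hx
  let y' : ProjectiveSpectrum (𝒮.deg U hU) := y
  by_contra! hall
  refine y'.not_irrelevant_le ?_
  show ((𝒮.deg U hU)₊).toIdeal ≤ y'.asHomogeneousIdeal.toIdeal
  rw [RelTildeX.irrelevant_eq_span_deg_one hgen U hU, Ideal.span_le]
  intro f hf
  by_contra hfy
  exact hall f hf ⟨y, hfy, rfl⟩

lemma res_fr_congr {n : ℤ} {L : P.Modules}
    {lam : ∀ (U : Y.Opens) (hU : IsAffineOpen U),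
      L ⟶ (Scheme.Modules.pushforward (RelProj.emb p chart U hU)).obj (GrTwist.twist (𝒮.deg U hU) n)}
    (hL : RelProj.IsRelTwist 𝒮 p chart n L lam) {U : Y.Opens} (hU : IsAffineOpen U)
    {f g : 𝒮.presheaf.obj (op U)} (e : f = g) (hf : f ∈ 𝒮.deg U hU 1) (hg : g ∈ 𝒮.deg U hU 1)
    {W : P.Opens} (h : W ≤ gOpen chart hU f) (h' : W ≤ gOpen chart hU g) :
    res L h (fr hL hU hf) = res L h' (fr hL hU hg) := by
  subst e; rfl

set_option maxHeartbeats 1600000 in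
/-- `h^* O(n) ≅ O(n)`. -/
theorem nonempty_iso_relProjMap {PA PB : Scheme.{u}} {𝒜 ℬ : RelProj.QCGrAlg Y}
    {φ : 𝒜.toQCAlg ⟶ ℬ.toQCAlg} {hφ : RelProj.IsGradedHom φ} (hgen : 𝒜.IsGenDegOne)
    {hirr : ∀ (U : Y.Opens) (hU : IsAffineOpen U),
      (ℬ.deg U hU)₊ ≤ ((𝒜.deg U hU)₊).map (RelProj.gradedHomAt φ hφ U hU)}
    {pA : PA ⟶ Y} {pB : PB ⟶ Y}
    {chartA : ∀ (U : Y.Opens) (hU : IsAffineOpen U), (((pA ⁻¹ᵁ U : PA.Opens) : Scheme.{u}) ≅ Proj (𝒜.deg U hU))}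
    {chartB : ∀ (U : Y.Opens) (hU : IsAffineOpen U), (((pB ⁻¹ᵁ U : PB.Opens) : Scheme.{u}) ≅ Proj (ℬ.deg U hU))}
    (hA : RelProj.IsRelProj 𝒜 pA chartA) (hB : RelProj.IsRelProj ℬ pB chartB)
    {h : PB ⟶ PA} (hh : RelProj.IsRelProjMap φ hφ hirr chartA chartB h) {n : ℤ}
    {LA : PA.Modules}
    {lamA : ∀ (U : Y.Opens) (hU : IsAffineOpen U),
      LA ⟶ (Scheme.Modules.pushforward (RelProj.emb pA chartA U hU)).obj (GrTwist.twist (𝒜.deg U hU) n)}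
    (hLA : RelProj.IsRelTwist 𝒜 pA chartA n LA lamA) {LB : PB.Modules}
    {lamB : ∀ (U : Y.Opens) (hU : IsAffineOpen U),
      LB ⟶ (Scheme.Modules.pushforward (RelProj.emb pB chartB U hU)).obj (GrTwist.twist (ℬ.deg U hU) n)}
    (hLB : RelProj.IsRelTwist ℬ pB chartB n LB lamB) :
    Nonempty ((Scheme.Modules.pullback h).obj LA ≅ LB) := by
  have hsq : ∀ (U : Y.Opens) (hU : IsAffineOpen U), RelProj.emb pB chartB U hU ≫ h =
      Proj.map (RelProj.gradedHomAt φ hφ U hU) (hirr U hU) ≫ RelProj.emb pA chartA U hU := fun U hU => by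
    rw [RelProj.emb, RelProj.emb, Category.assoc, hh U hU, Iso.inv_hom_id_assoc]
  have hp : h ≫ pA = pB := Proj16.relProjMap_comp hA hB hh
  let φU := fun (U : Y.Opens) (hU : IsAffineOpen U) => RelProj.gradedHomAt φ hφ U hU
  let ι := Σ U : Y.affineOpens, {f : 𝒜.presheaf.obj (op U.1) // f ∈ 𝒜.deg U.1 U.2 1}
  have hpre : ∀ a : ι, h ⁻¹ᵁ gOpen chartA a.1.2 a.2.1 = gOpen chartB a.1.2 (φU a.1.1 a.1.2 a.2.1) := fun a =>
    preimage_gOpen a.1.2 _ (hirr _ _) (hsq _ _) hp a.2.1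
  refine nonempty_iso_pullback hLA hA h (ι := ι) (fun a => a.1.1) (fun a => a.1.2) (fun a => a.2.1)
    (fun a => a.2.2) (fun x => ?_)
    (fun a => res LB (hpre a).le (fr hLB a.1.2 ((φU a.1.1 a.1.2).map_mem a.2.2)))
    (fun a => (isFrame_fr hLB _ _).res _) ?_
  · obtain ⟨U, hU, hxU, -⟩ :=
      exists_isAffineOpen_mem_and_subset (U := (⊤ : Y.Opens)) (x := pA (h x)) (Opens.mem_top _)
    obtain ⟨f, hf, hxf⟩ := exists_mem_gOpen (chart := chartA) hgen hU (h x) hxU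
    exact ⟨⟨⟨U, hU⟩, f, hf⟩, hxf⟩
  intro a b D hD ia ib hba hbb W ha hb ha' hb'
  set fa := 𝒜.res a.1.2 hD ia a.2.1
  set fb := 𝒜.res b.1.2 hD ib b.2.1
  have hma : fa ∈ 𝒜.deg D hD 1 := (𝒜.res a.1.2 hD ia).map_mem a.2.2
  have hmb : fb ∈ 𝒜.deg D hD 1 := (𝒜.res b.1.2 hD ib).map_mem b.2.2
  have hDa := preimage_gOpen (chart := chartA) (chartB := chartB) hD (φU D hD) (hirr D hD) (hsq D hD) hp fa
  have hDb := preimage_gOpen (chart := chartA) (chartB := chartB) hD (φU D hD) (hirr D hD) (hsq D hD) hp fb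
  have hea : ℬ.res a.1.2 hD ia (φU a.1.1 a.1.2 a.2.1) = φU D hD fa :=
    DFunLike.congr_fun (Proj16.gradedHomAt_comp_res φ hφ a.1.1 D a.1.2 hD ia) a.2.1
  have heb : ℬ.res b.1.2 hD ib (φU b.1.1 b.1.2 b.2.1) = φU D hD fb :=
    DFunLike.congr_fun (Proj16.gradedHomAt_comp_res φ hφ b.1.1 D b.1.2 hD ib) b.2.1
  have key : ∀ (c : ι) (ic : D ≤ c.1.1) (hbc : ∃ r : Γ(Y, c.1.1), Y.basicOpen r = D)
      (g : ℬ.presheaf.obj (op D)) (hg : g ∈ ℬ.deg D hD 1)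
      (e : ℬ.res c.1.2 hD ic (φU c.1.1 c.1.2 c.2.1) = g)
      (h1 : W ≤ gOpen chartB hD g) (h2 : W ≤ h ⁻¹ᵁ gOpen chartA c.1.2 c.2.1),
      res LB h2 (res LB (hpre c).le (fr hLB c.1.2 ((φU c.1.1 c.1.2).map_mem c.2.2))) =
        res LB h1 (fr hLB hD hg) := by
    intro c ic hbc g hg e h1 h2
    have h3 : W ≤ gOpen chartB hD (ℬ.res c.1.2 hD ic (φU c.1.1 c.1.2 c.2.1)) := by rw [e]; exact h1
    rw [res_res, ← res_fr_congr hLB hD e ((ℬ.res c.1.2 hD ic).map_mem ((φU c.1.1 c.1.2).map_mem c.2.2)) hg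
      h3 h1, ← res_fr hLB c.1.2 hB hD ic hbc ((φU c.1.1 c.1.2).map_mem c.2.2)]
    exact (res_res (M := LB) _ _ _).symm
  have ha2 : W ≤ gOpen chartB hD (φU D hD fa) := ha.trans hDa.le
  have hb2 : W ≤ gOpen chartB hD (φU D hD fb) := hb.trans hDb.le
  rw [key a ia hba _ ((φU D hD).map_mem hma) hea ha2 ha', key b ib hbb _ ((φU D hD).map_mem hmb) heb hb2 hb',
    fr_transition hLB hD ((φU D hD).map_mem hma) ((φU D hD).map_mem hmb) ha2 hb2]
  refine congrArg₂ (fun u v => zfac u v n • res LB ha2 (fr hLB hD ((φU D hD).map_mem hma))) ?_ ?_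
  · rw [← appLE_frac hD (φU D hD) (hirr D hD) (hsq D hD) hma hmb hDa.ge]
    exact congr($(h.appLE_map hDa.ge (homOfLE ha2).op).hom _)
  · rw [← appLE_frac hD (φU D hD) (hirr D hD) (hsq D hD) hmb hma hDb.ge]
    exact congr($(h.appLE_map hDb.ge (homOfLE hb2).op).hom _)

end Groth.Agent.Eg2Rel
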